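import Mathlib.Algebra.Polynomial.Taylor
import Mathlib.Algebra.Polynomial.Reverse
import Mathlib.Algebra.Polynomial.Degree.Lemmas
import Mathlib.Data.Nat.Choose.Lucas
import Mathlib.Algebra.CharP.Basic
import Mathlib.LinearAlgebra.Matrix.Block
import Mathlib.Data.Matrix.Mul

/-!
The Cartier–Manin matrix under reflection and translation.
-/

set_option autoImplicit false
universe u

namespace Groth.Agent.H29CM

open Polynomial Finset

variable {k : Type u} [Field k]

theorem natDegree_pow_half {p g : ℕ} (f : k[X]) (hf : f.natDegree ≤ 2 * g + 2) :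
    (f ^ ((p - 1) / 2)).natDegree ≤ (g + 1) * (p - 1) := by
  refine natDegree_pow_le.trans ((Nat.mul_le_mul_left _ hf).trans ?_)
  have h : (p - 1) / 2 * 2 ≤ p - 1 := Nat.div_mul_le_self _ _
  calc (p - 1) / 2 * (2 * g + 2) = (g + 1) * ((p - 1) / 2 * 2) := by ring
    _ ≤ _ := Nat.mul_le_mul_left _ h

theorem reflect_pow (f : k[X]) {N : ℕ} (hf : f.natDegree ≤ N) (m : ℕ) :
    (reflect N f) ^ m = reflect (m * N) (f ^ m) := by
  induction m with
  | zero => simp
  | succ m ih =>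
    rw [pow_succ, ih, pow_succ, Nat.succ_mul,
      reflect_mul _ _ (natDegree_pow_le.trans (Nat.mul_le_mul_left _ hf)) hf]

theorem lucas_cast {p : ℕ} [Fact p.Prime] [CharP k p] (n m : ℕ) :
    ((n.choose m : ℕ) : k) = (((n % p).choose (m % p) : ℕ) : k) * (((n / p).choose (m / p) : ℕ) : k) := by
  rw [← Nat.cast_mul]
  exact (CharP.natCast_eq_natCast k p).mpr Choose.choose_modEq_choose_mod_mul_choose_div_nat

theorem coeff_translate_eq {p g : ℕ} [Fact p.Prime] [CharP k p] (hg : g ≤ p) (h : k[X])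
    (hh : h.natDegree ≤ (g + 1) * (p - 1)) (α : k) (i j : Fin g) :
    (h.comp (X + C α)).coeff (((i : ℕ) + 1) * p - ((j : ℕ) + 1)) =
      ∑ J : Fin g, (∑ I : Fin g, ((((I : ℕ).choose (i : ℕ) : ℕ) : k) * α ^ (((I : ℕ) - (i : ℕ)) * p)) *
          h.coeff (((I : ℕ) + 1) * p - ((J : ℕ) + 1))) *
        ((((p - ((J : ℕ) + 1)).choose (p - ((j : ℕ) + 1)) : ℕ) : k) * α ^ ((j : ℕ) - (J : ℕ))) := by
  have hp : 0 < p := (Fact.out : p.Prime).pos
  have hi := i.2
  have hj := j.2
  set N := ((i : ℕ) + 1) * p - ((j : ℕ) + 1) with hN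
  set r₀ := p - ((j : ℕ) + 1) with hr₀
  have hNdec : N = r₀ + p * (i : ℕ) := by
    rw [hN, Nat.succ_mul, mul_comm p, hr₀]; omega
  have hr₀p : r₀ < p := by omega
  have hNq : N / p = (i : ℕ) := by
    rw [hNdec, Nat.add_mul_div_left _ _ hp, Nat.div_eq_of_lt hr₀p, zero_add]
  have hNr : N % p = r₀ := by
    rw [hNdec, Nat.add_mul_mod_self_left, Nat.mod_eq_of_lt hr₀p]
  -- the coefficient as a sum
  let t : ℕ → k := fun M => ((M.choose N : ℕ) : k) * h.coeff M * α ^ (M - N)
  have hsum : (h.comp (X + C α)).coeff N = ∑ M ∈ range ((g + 1) * p), t M := by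
    rw [← taylor_apply, taylor_coeff, hasseDeriv_apply, Polynomial.sum_def, eval_finset_sum]
    refine (Finset.sum_congr rfl fun M _ => eval_monomial).trans
      (Finset.sum_subset ?_ fun M _ hM => ?_)
    · intro M hM
      rw [mem_range]
      have h1 : M ≤ (g + 1) * (p - 1) := (le_natDegree_of_mem_supp M hM).trans hh
      have h2 : (g + 1) * (p - 1) < (g + 1) * p := Nat.mul_lt_mul_of_pos_left (by omega) (by omega)
      omega
    · simp [notMem_support_iff.mp hM]
  -- keep the columns `M = I p + (p - 1 - J)`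
  let e : Fin g × Fin g → ℕ := fun q => ((q.1 : ℕ) + 1) * p - ((q.2 : ℕ) + 1)
  have he : ∀ q, e q = (p - ((q.2 : ℕ) + 1)) + p * (q.1 : ℕ) := fun q => by
    have := q.2.2
    show ((q.1 : ℕ) + 1) * p - ((q.2 : ℕ) + 1) = _
    rw [Nat.succ_mul, mul_comm p]; omega
  have heq : ∀ q, e q / p = (q.1 : ℕ) ∧ e q % p = p - ((q.2 : ℕ) + 1) := fun q => by
    have := q.2.2
    rw [he, Nat.add_mul_div_left _ _ hp, Nat.div_eq_of_lt (show p - ((q.2 : ℕ) + 1) < p by omega),
      zero_add, Nat.add_mul_mod_self_left, Nat.mod_eq_of_lt (show p - ((q.2 : ℕ) + 1) < p by omega)]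
    exact ⟨rfl, rfl⟩
  have hinj : Function.Injective e := by
    intro q q' h'
    have h1 := (heq q).1
    have h2 := (heq q).2
    rw [h', (heq q').1] at h1
    rw [h', (heq q').2] at h2
    have := q.2.2
    have := q'.2.2
    exact Prod.ext (Fin.ext h1.symm) (Fin.ext (by omega))
  have key : ∑ M ∈ range ((g + 1) * p), t M = ∑ q : Fin g × Fin g, t (e q) := by
    refine (Finset.sum_of_injOn e hinj.injOn ?_ ?_ fun q _ => rfl).symm
    · intro q _
      rw [Finset.mem_coe, mem_range, he]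
      have := q.1.2
      have := q.2.2
      calc p - ((q.2 : ℕ) + 1) + p * (q.1 : ℕ) < p + p * (q.1 : ℕ) := by omega
        _ = p * ((q.1 : ℕ) + 1) := by ring
        _ ≤ (g + 1) * p := by rw [mul_comm (g + 1)]; exact Nat.mul_le_mul_left _ (by omega)
    · intro M hM hnot
      rw [mem_range] at hM
      by_cases hMd : (g + 1) * (p - 1) < M
      · simp [t, coeff_eq_zero_of_natDegree_lt (lt_of_le_of_lt hh hMd)]
      have hMr : M % p < p := Nat.mod_lt _ hp
      by_cases hr : M % p < r₀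
      · simp [t, lucas_cast (k := k) M N, hNr, Nat.choose_eq_zero_of_lt hr]
      exfalso
      apply hnot
      have hq : M / p < g := by
        by_contra hq
        have h1 : p * g ≤ p * (M / p) := Nat.mul_le_mul_left _ (not_lt.mp hq)
        have h2 := Nat.div_add_mod M p
        have h3 : (g + 1) * (p - 1) + (g + 1) = p * g + p := by
          rw [← Nat.mul_succ, Nat.succ_eq_add_one, Nat.sub_add_cancel hp]; ring
        omega
      refine ⟨(⟨M / p, hq⟩, ⟨p - 1 - M % p, by omega⟩), by simp, ?_⟩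
      rw [he]
      show p - (p - 1 - M % p + 1) + p * (M / p) = M
      have := Nat.div_add_mod M p
      omega
  rw [hsum, key, Fintype.sum_prod_type, Finset.sum_comm]
  refine Finset.sum_congr rfl fun J _ => ?_
  rw [Finset.sum_mul]
  refine Finset.sum_congr rfl fun I _ => ?_
  show ((((e (I, J)).choose N : ℕ) : k) * h.coeff (e (I, J)) * α ^ (e (I, J) - N)) = _
  rw [lucas_cast (k := k) (e (I, J)) N, (heq _).1, (heq _).2, hNq, hNr]
  change _ * _ = _
  by_cases hI : (i : ℕ) ≤ (I : ℕ)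
  · by_cases hJ : (J : ℕ) ≤ (j : ℕ)
    · have hexp : e (I, J) - N = ((I : ℕ) - (i : ℕ)) * p + ((j : ℕ) - (J : ℕ)) := by
        rw [he, hNdec]
        have : p * (I : ℕ) = p * (i : ℕ) + ((I : ℕ) - (i : ℕ)) * p := by
          rw [mul_comm (_ - _), ← Nat.mul_add, Nat.add_sub_cancel' hI]
        have := J.2
        show p - ((J : ℕ) + 1) + p * (I : ℕ) - _ = _
        omega
      rw [hexp, pow_add]
      show _ * h.coeff (((I : ℕ) + 1) * p - ((J : ℕ) + 1)) * _ = _
      ring
    · rw [Nat.choose_eq_zero_of_lt (show p - ((J : ℕ) + 1) < r₀ by have := J.2; omega)]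
      simp
  · rw [Nat.choose_eq_zero_of_lt (show (I : ℕ) < (i : ℕ) by omega)]
    simp

theorem cartierManin_translate {p g : ℕ} [Fact p.Prime] [CharP k p] (hg : g ≤ p) (f : k[X])
    (hf : f.natDegree ≤ 2 * g + 2) (α : k) :
    (Matrix.of fun i j : Fin g =>
        ((f.comp (X + C α)) ^ ((p - 1) / 2)).coeff (((i : ℕ) + 1) * p - ((j : ℕ) + 1))) =
      (Matrix.of fun i I : Fin g => (((I : ℕ).choose (i : ℕ) : ℕ) : k) * α ^ (((I : ℕ) - (i : ℕ)) * p)) *
        (Matrix.of fun i j : Fin g => (f ^ ((p - 1) / 2)).coeff (((i : ℕ) + 1) * p - ((j : ℕ) + 1))) *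
        (Matrix.of fun J j : Fin g =>
          (((p - ((J : ℕ) + 1)).choose (p - ((j : ℕ) + 1)) : ℕ) : k) * α ^ ((j : ℕ) - (J : ℕ))) := by
  ext i j
  simp only [Matrix.mul_apply, Matrix.of_apply]
  rw [← pow_comp]
  exact coeff_translate_eq hg _ (natDegree_pow_half f hf) α i j

theorem det_translate {p g : ℕ} [Fact p.Prime] [CharP k p] (hg : g ≤ p) (f : k[X])
    (hf : f.natDegree ≤ 2 * g + 2) (α : k) :
    (Matrix.of fun i j : Fin g =>
        ((f.comp (X + C α)) ^ ((p - 1) / 2)).coeff (((i : ℕ) + 1) * p - ((j : ℕ) + 1))).det =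
      (Matrix.of fun i j : Fin g => (f ^ ((p - 1) / 2)).coeff (((i : ℕ) + 1) * p - ((j : ℕ) + 1))).det := by
  rw [cartierManin_translate hg f hf α, Matrix.det_mul, Matrix.det_mul]
  rw [Matrix.det_of_upperTriangular (M := Matrix.of fun i I : Fin g =>
      (((I : ℕ).choose (i : ℕ) : ℕ) : k) * α ^ (((I : ℕ) - (i : ℕ)) * p)) (fun i I h => ?_),
    Matrix.det_of_upperTriangular (M := Matrix.of fun J j : Fin g =>
      (((p - ((J : ℕ) + 1)).choose (p - ((j : ℕ) + 1)) : ℕ) : k) * α ^ ((j : ℕ) - (J : ℕ))) (fun J j h => ?_)]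
  · simp
  · have : (j : ℕ) < (J : ℕ) := h
    have := J.2
    simp [Nat.choose_eq_zero_of_lt (show p - ((J : ℕ) + 1) < p - ((j : ℕ) + 1) by omega)]
  · have : (I : ℕ) < (i : ℕ) := h
    simp [Nat.choose_eq_zero_of_lt this]

theorem cartierManin_reflect {p g : ℕ} [Fact p.Prime] [CharP k p] (hp : p ≠ 2) (hg : g ≤ p)
    (f : k[X]) (hf : f.natDegree ≤ 2 * g + 2) :
    (Matrix.of fun i j : Fin g =>
        ((reflect (2 * g + 2) f) ^ ((p - 1) / 2)).coeff (((i : ℕ) + 1) * p - ((j : ℕ) + 1))) =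
      Matrix.of fun i j : Fin g =>
        (f ^ ((p - 1) / 2)).coeff (((Fin.rev i : ℕ) + 1) * p - ((Fin.rev j : ℕ) + 1)) := by
  obtain ⟨m, hm⟩ := (Fact.out : p.Prime).odd_of_ne_two hp
  ext i j
  simp only [Matrix.of_apply]
  rw [reflect_pow f hf, coeff_reflect]
  congr 1
  have hi := i.2
  have hj := j.2
  have hmul : (p - 1) / 2 * (2 * g + 2) = g * p + p - (g + 1) := by
    rw [show (p - 1) / 2 = m by omega, hm]
    have h : g * (2 * m + 1) + (2 * m + 1) = m * (2 * g + 2) + (g + 1) := by ring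
    omega
  have hsplit : g * p = ((i : ℕ) + 1) * p + (g - ((i : ℕ) + 1)) * p := by
    rw [← Nat.add_mul, Nat.add_sub_cancel' hi]
  have hip : p ≤ ((i : ℕ) + 1) * p := Nat.le_mul_of_pos_left _ (Nat.succ_pos _)
  rw [hmul, revAt_le (by omega), Fin.val_rev, Fin.val_rev,
    Nat.succ_mul (g - ((i : ℕ) + 1)) p]
  omega

end Groth.Agent.H29CM
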